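import Mathlib.GroupTheory.Sylow
import Mathlib.GroupTheory.Nilpotent
import Mathlib.GroupTheory.SpecificGroups.Cyclic
import Mathlib.NumberTheory.Multiplicity
import Mathlib.FieldTheory.Finite.Basic

/-! A finite p-group (p odd) with at most p solutions of `y ^ p = 1` is cyclic. -/

namespace CfsgLib.IsolatedP

/-- `(a ^ t * b) ^ n` when `b` acts on `a` by a power. -/
theorem pow_mul_of_conj {G : Type*} [Group G] (a b : G) (i t : ℤ) (h : b * a * b⁻¹ = a ^ i) (n : ℕ) :
    (a ^ t * b) ^ n = a ^ (t * ∑ j ∈ Finset.range n, i ^ j) * b ^ n := by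
  induction n with
  | zero => simp
  | succ n ih =>
    have hb : ∀ m : ℤ, b * a ^ m = a ^ (i * m) * b := by
      intro m
      have : b * a ^ m * b⁻¹ = a ^ (i * m) := by rw [← conj_zpow, h, ← zpow_mul]
      rw [← this]; simp
    have hbn : ∀ k : ℕ, ∀ m : ℤ, b ^ k * a ^ m = a ^ (i ^ k * m) * b ^ k := by
      intro k; induction k with
      | zero => simp
      | succ k ihk =>
        intro m
        calc b ^ (k + 1) * a ^ m = b ^ k * (b * a ^ m) := by rw [pow_succ, mul_assoc]
          _ = b ^ k * a ^ (i * m) * b := by rw [hb, mul_assoc]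
          _ = a ^ (i ^ k * (i * m)) * b ^ k * b := by rw [ihk]
          _ = a ^ (i ^ (k + 1) * m) * b ^ (k + 1) := by rw [mul_assoc, ← pow_succ]; ring_nf
    rw [pow_succ, ih, Finset.sum_range_succ, mul_add, zpow_add]
    calc a ^ (t * ∑ j ∈ Finset.range n, i ^ j) * b ^ n * (a ^ t * b)
        = a ^ (t * ∑ j ∈ Finset.range n, i ^ j) * (b ^ n * a ^ t) * b := by group
      _ = a ^ (t * ∑ j ∈ Finset.range n, i ^ j) * (a ^ (t * i ^ n)) * (b ^ n * b) := by
        rw [hbn n t, mul_comm (i ^ n) t]; group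
      _ = _ := by rw [← pow_succ]

/-- A finite `p`-group, `p` odd, with at most `p` elements killed by `p`, is cyclic. -/
theorem isCyclic_of_card_pow_eq_one_le_prime (p : ℕ) [hp : Fact p.Prime] (hodd : p ≠ 2) :
    ∀ (n : ℕ) (P : Type*) [Group P] [Finite P], Nat.card P = n → IsPGroup p P →
      Nat.card {y : P // y ^ p = 1} ≤ p → IsCyclic P := by
  intro n
  induction n using Nat.strong_induction_on with
  | _ n ih =>
  intro P _ _ hn hP hle
  classical
  rcases subsingleton_or_nontrivial P with h | h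
  · infer_instance
  obtain ⟨M, hM⟩ : ∃ M : Subgroup P, IsCoatom M := by
    rcases IsCoatomic.eq_top_or_exists_le_coatom (⊥ : Subgroup P) with h' | ⟨M, hM, -⟩
    · exact absurd h' bot_ne_top
    · exact ⟨M, hM⟩
  have := hP.isNilpotent
  have hMn : M.Normal :=
    Subgroup.NormalizerCondition.normal_of_coatom M Group.normalizerCondition_of_isNilpotent hM
  have hidx : M.index = p := by
    obtain ⟨k, hk⟩ := hP.index M
    rcases k with _ | _ | k
    · exact absurd (Subgroup.index_eq_one.1 (by simpa using hk)) hM.1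
    · simpa using hk
    · exfalso
      have hd : p ∣ Nat.card (P ⧸ M) := by
        rw [← Subgroup.index_eq_card, hk]; exact dvd_pow_self p (by omega)
      obtain ⟨q, hq⟩ := exists_prime_orderOf_dvd_card' p hd
      have hlt : M < (Subgroup.zpowers q).comap (QuotientGroup.mk' M) := by
        refine lt_of_le_of_ne ?_ ?_
        · intro m hm
          simp [(QuotientGroup.eq_one_iff m).2 hm]
        · intro he
          obtain ⟨b, hb⟩ := QuotientGroup.mk_surjective q
          have : b ∈ M := by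
            rw [he, Subgroup.mem_comap, QuotientGroup.mk'_apply, hb]
            exact Subgroup.mem_zpowers q
          rw [(QuotientGroup.eq_one_iff b).2 this] at hb
          rw [← hb, orderOf_one] at hq
          exact hp.out.ne_one hq.symm
      have htop := hM.2 _ hlt
      have htop' : Subgroup.zpowers q = ⊤ := by
        rw [← Subgroup.map_comap_eq_self_of_surjective (QuotientGroup.mk'_surjective M)
          (Subgroup.zpowers q), htop, Subgroup.map_top_of_surjective _ (QuotientGroup.mk'_surjective M)]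
      have h1 := congrArg (fun S : Subgroup (P ⧸ M) => Nat.card S) htop'
      simp only [Nat.card_zpowers, hq, Subgroup.card_top] at h1
      rw [← Subgroup.index_eq_card, hk] at h1
      have := Nat.pow_right_injective hp.out.two_le (show p ^ 1 = p ^ (k + 1 + 1) by simpa using h1)
      omega
  have hMcard : Nat.card M < n := by
    rw [← hn, ← M.card_mul_index, hidx]
    exact lt_mul_of_one_lt_right Nat.card_pos hp.out.one_lt
  have hMcyc : IsCyclic M := by
    refine ih _ hMcard M rfl (hP.to_subgroup M) (le_trans ?_ hle)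
    refine Nat.card_le_card_of_injective
      (fun y => ⟨(y.1 : P), by exact_mod_cast congrArg Subtype.val y.2⟩) ?_
    intro y z hyz
    simp only [Subtype.mk.injEq] at hyz
    exact Subtype.ext (Subtype.ext hyz)
  obtain ⟨a, ha⟩ := hMcyc.exists_generator
  obtain ⟨b, hb⟩ : ∃ b : P, b ∉ M := by
    by_contra hh; push Not at hh
    exact hM.1 (top_le_iff.1 fun x _ => hh x)
  have hMmem : ∀ y ∈ M, ∃ s : ℤ, (a : P) ^ s = y := by
    intro y hy
    obtain ⟨s, hs⟩ := Subgroup.mem_zpowers_iff.1 (ha ⟨y, hy⟩)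
    exact ⟨s, by simpa using congrArg Subtype.val hs⟩
  have hbp : b ^ p ∈ M := by rw [← hidx]; exact Subgroup.pow_index_mem M b
  obtain ⟨s, hs⟩ := hMmem _ hbp
  obtain ⟨i, hi⟩ := hMmem _ (hMn.conj_mem a a.2 b)
  obtain ⟨e, he⟩ := (IsPGroup.iff_orderOf.1 hP) (a : P)
  have hcardM : Nat.card M = p ^ e := by
    rw [← he, Subgroup.orderOf_coe]; exact (orderOf_eq_card_of_forall_mem_zpowers ha).symm
  rcases Nat.eq_zero_or_pos e with he0 | he0
  · -- `M` trivial, `P` of prime order
    have : Nat.card P = p := by rw [← M.card_mul_index, hcardM, he0, hidx]; simp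
    exact isCyclic_of_prime_card this
  by_cases hps : (p : ℤ) ∣ s
  swap
  · refine isCyclic_of_orderOf_eq_card b ?_
    have hc : Nat.card P = p ^ (e + 1) := by rw [← M.card_mul_index, hcardM, hidx, pow_succ]
    rw [hc]
    refine orderOf_eq_prime_pow ?_ ?_
    · rw [show p ^ e = p * p ^ (e - 1) from by rw [← pow_succ']; congr 1; omega, pow_mul, ← hs,
        ← zpow_natCast, ← zpow_mul]
      intro h1
      rw [← orderOf_dvd_iff_zpow_eq_one, he] at h1
      apply hps
      have h2 : (p : ℤ) ^ (e - 1) * p ∣ (p : ℤ) ^ (e - 1) * s := by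
        rw [← pow_succ, show e - 1 + 1 = e by omega, mul_comm]; exact_mod_cast h1
      exact Int.dvd_of_mul_dvd_mul_left (pow_ne_zero _ (by exact_mod_cast hp.out.ne_zero)) h2
    · rw [← hc]; exact pow_card_eq_one'
  obtain ⟨r, rfl⟩ := hps
  exfalso
  -- `b ^ p` centralises `a`, so `i ^ p ≡ 1`
  have hip : (p : ℤ) ^ e ∣ i ^ p - 1 := by
    have hconj : ∀ k : ℕ, b ^ k * (a : P) * (b ^ k)⁻¹ = (a : P) ^ (i ^ k) := by
      intro k; induction k with
      | zero => simp
      | succ k ihk =>
        calc b ^ (k + 1) * (a : P) * (b ^ (k + 1))⁻¹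
            = b * (b ^ k * (a : P) * (b ^ k)⁻¹) * b⁻¹ := by rw [pow_succ']; group
          _ = (b * (a : P) * b⁻¹) ^ (i ^ k) := by rw [ihk, conj_zpow]
          _ = (a : P) ^ (i ^ (k + 1)) := by rw [← hi, ← zpow_mul, pow_succ']
    have h := hconj p
    rw [← hs] at h
    have h1 : (a : P) ^ (i ^ p - 1) = 1 := by
      rw [zpow_sub, zpow_one, ← h]; group
    have := orderOf_dvd_iff_zpow_eq_one.2 h1
    rw [he] at this; exact_mod_cast this
  have hi1 : (p : ℤ) ∣ i - 1 := by
    have h1 : ((i ^ p - 1 : ℤ) : ZMod p) = 0 :=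
      (ZMod.intCast_zmod_eq_zero_iff_dvd _ p).2 (dvd_trans (dvd_pow_self _ (by omega)) hip)
    refine (ZMod.intCast_zmod_eq_zero_iff_dvd _ p).1 ?_
    push_cast at h1 ⊢
    rwa [ZMod.pow_card] at h1
  obtain ⟨u, hu⟩ := hi1
  obtain ⟨v, hv⟩ : ∃ v : ℤ, ∑ j ∈ Finset.range p, i ^ j = (p : ℤ) * v ∧ (p : ℤ) ∣ v - 1 := by
    have h2 := odd_sq_dvd_geom_sum₂_sub (R := ℤ) (p := p) 1 u (hp.out.odd_of_ne_two hodd)
    simp only [one_pow, mul_one] at h2
    have hi' : 1 + (p : ℤ) * u = i := by rw [← hu]; ring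
    rw [hi'] at h2
    obtain ⟨w, hw⟩ := h2
    exact ⟨1 + (p : ℤ) * w, by linear_combination hw, ⟨w, by ring⟩⟩
  obtain ⟨hv, hv1⟩ := hv
  have hcop : IsCoprime v ((p : ℤ) ^ e) := by
    obtain ⟨w, hw⟩ := hv1
    exact IsCoprime.pow_right ⟨1, -w, by linear_combination hw⟩
  obtain ⟨c, d, hcd⟩ := hcop
  set y : P := (a : P) ^ (-(r * c)) * b with hy
  have hyp : y ^ p = 1 := by
    rw [hy, pow_mul_of_conj (a : P) b i _ hi.symm p, ← hs, ← zpow_add, ← orderOf_dvd_iff_zpow_eq_one,
      he]
    refine ⟨(p : ℤ) * r * d, ?_⟩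
    push_cast
    rw [hv]; linear_combination (-((p : ℤ) * r)) * hcd
  have hyM : y ∉ M := fun hyM => hb <| by
    have := M.mul_mem (M.inv_mem (M.zpow_mem a.2 (-(r * c)))) hyM
    simpa [hy] using this
  -- too many elements killed by `p`
  set z : P := (a : P) ^ p ^ (e - 1) with hz
  have hzo : orderOf z = p := by
    rw [hz, orderOf_pow' _ (pow_ne_zero _ hp.out.ne_zero), he, Nat.gcd_eq_right (pow_dvd_pow p (by omega)),
      Nat.pow_div (by omega) hp.out.pos]
    simp [show e - (e - 1) = 1 by omega]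
  have : Fintype P := Fintype.ofFinite P
  let S : Finset P := insert y ((Finset.range p).image fun k => z ^ k)
  have hS : S.card = p + 1 := by
    rw [Finset.card_insert_of_notMem, Finset.card_image_of_injOn, Finset.card_range]
    · intro k hk l hl hkl
      simp only [Finset.coe_range, Set.mem_Iio] at hk hl
      exact pow_injOn_Iio_orderOf (by simpa [hzo] using hk) (by simpa [hzo] using hl) hkl
    · simp only [Finset.mem_image, not_exists, not_and]
      intro k _ hk
      exact hyM (hk ▸ M.pow_mem (M.pow_mem a.2 _) _)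
  have hsub : S ⊆ Finset.univ.filter fun w : P => w ^ p = 1 := by
    intro w hw
    simp only [S, Finset.mem_insert, Finset.mem_image] at hw
    rcases hw with rfl | ⟨k, _, rfl⟩
    · simp [hyp]
    · simp only [Finset.mem_filter, Finset.mem_univ, true_and]
      rw [← pow_mul, mul_comm, pow_mul, ← hzo, pow_orderOf_eq_one, one_pow]
  have := Finset.card_le_card hsub
  rw [hS, ← Fintype.card_subtype, ← Nat.card_eq_fintype_card] at this
  omega

end CfsgLib.IsolatedP
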