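import Cfsg.Prelude.Def_IsolatedElements
import Mathlib.GroupTheory.Sylow
import Mathlib.GroupTheory.Nilpotent
import Mathlib.GroupTheory.Transfer
import Mathlib.NumberTheory.Basic
import Mathlib.RingTheory.Coprime.Lemmas
import Mathlib.RingTheory.Int.Basic

/-! Isolated elements of prime power order. -/

namespace CfsgLib.IsolatedP

variable {G : Type*} [Group G]

theorem isPGroup_zpowers [Finite G] {p : ℕ} [Fact p.Prime] {x : G} (hx : ∃ k : ℕ, orderOf x = p ^ k) :
    IsPGroup p (Subgroup.zpowers x) := by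
  obtain ⟨k, hk⟩ := hx
  exact IsPGroup.of_card (n := k) (by rw [Nat.card_zpowers, hk])

theorem isIsolated_subtype {x : G} (hiso : Cfsg.IsIsolated x) (H : Subgroup G) (hx : x ∈ H) :
    Cfsg.IsIsolated (⟨x, hx⟩ : H) := fun g h =>
  Subtype.ext (hiso (g : G) (congrArg Subtype.val h))

variable [Finite G] {p : ℕ} [Fact p.Prime]

/-- An isolated element is central in every `p`-subgroup containing it. -/
theorem commute_of_mem {x : G} (hiso : Cfsg.IsIsolated x) {R : Subgroup G} (hR : IsPGroup p R)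
    (hxR : x ∈ R) : ∀ y ∈ R, Commute y x := by
  have := hR.isNilpotent
  let C : Subgroup R := Subgroup.centralizer {(⟨x, hxR⟩ : R)}
  have hC : C = ⊤ := by
    by_contra h
    have hlt := Group.normalizerCondition_of_isNilpotent C (lt_top_iff_ne_top.2 h)
    obtain ⟨n, hn, hnC⟩ := Set.exists_of_ssubset hlt
    have hx' : (⟨x, hxR⟩ : R) ∈ C := Subgroup.mem_centralizer_singleton_iff.2 rfl
    have h1 := (Subgroup.mem_normalizer_iff.1 hn ⟨x, hxR⟩).1 hx'
    have h2 : Commute x ((n : G) * x * (n : G)⁻¹) := by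
      have := congrArg Subtype.val (Subgroup.mem_centralizer_singleton_iff.1 h1)
      simp only [Subgroup.coe_mul, Subgroup.coe_inv] at this
      first | exact this | exact this.symm
    have h3 := hiso _ h2
    refine hnC (Subgroup.mem_centralizer_singleton_iff.2 (Subtype.ext ?_))
    have h4 := mul_inv_eq_iff_eq_mul.1 h3
    simp only [Subgroup.coe_mul]
    first | exact h4 | exact h4.symm
  intro y hy
  have h5 : (⟨y, hy⟩ : R) ∈ C := by rw [hC]; trivial
  have := congrArg Subtype.val (Subgroup.mem_centralizer_singleton_iff.1 h5)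
  simp only [Subgroup.coe_mul] at this
  first | exact this | exact this.symm

/-- An isolated element has no other conjugate in a `p`-subgroup containing it. -/
theorem conj_eq_of_mem {x : G} (hiso : Cfsg.IsIsolated x) {R : Subgroup G} (hR : IsPGroup p R)
    (hxR : x ∈ R) (g : G) (hg : g * x * g⁻¹ ∈ R) : g * x * g⁻¹ = x :=
  hiso g (commute_of_mem hiso hR hxR _ hg).symm

/-- Frattini argument: a normal subgroup containing an isolated `p`-element supplements its centralizer. -/
theorem sup_centralizer_eq_top {x : G} (hiso : Cfsg.IsIsolated x) (hx : ∃ k : ℕ, orderOf x = p ^ k)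
    (N : Subgroup G) [N.Normal] (hxN : x ∈ N) : N ⊔ Subgroup.centralizer {x} = ⊤ := by
  have hN : IsPGroup p (Subgroup.zpowers (⟨x, hxN⟩ : N)) := by
    refine isPGroup_zpowers ?_
    rwa [Subgroup.orderOf_mk]
  obtain ⟨P, hP⟩ := hN.exists_le_sylow
  rw [eq_top_iff, ← Sylow.normalizer_sup_eq_top P]
  refine sup_le ?_ le_sup_left
  intro g hg
  refine (le_sup_right : Subgroup.centralizer ({x} : Set G) ≤ N ⊔ Subgroup.centralizer ({x} : Set G)) ?_
  have hxP : x ∈ (P : Subgroup N).map N.subtype :=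
    ⟨⟨x, hxN⟩, hP (Subgroup.mem_zpowers _), rfl⟩
  have h := conj_eq_of_mem hiso (P.2.map N.subtype) hxP g ((Subgroup.mem_normalizer_iff.1 hg x).1 hxP)
  rw [Subgroup.mem_centralizer_singleton_iff]
  first | exact mul_inv_eq_iff_eq_mul.1 h | exact (mul_inv_eq_iff_eq_mul.1 h).symm

/-- Isolation passes to quotients. -/
theorem isIsolated_mk {x : G} (hiso : Cfsg.IsIsolated x) (hx : ∃ k : ℕ, orderOf x = p ^ k)
    (N : Subgroup G) [N.Normal] : Cfsg.IsIsolated (QuotientGroup.mk x : G ⧸ N) := by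
  intro q hq
  obtain ⟨g, rfl⟩ := QuotientGroup.mk_surjective q
  rw [← QuotientGroup.mk_inv, ← QuotientGroup.mk_mul, ← QuotientGroup.mk_mul] at hq ⊢
  set x' := g * x * g⁻¹ with hx'def
  -- everything in `⟨x, x'⟩` commutes with `x'` modulo `N`
  let M : Subgroup G := Subgroup.zpowers x ⊔ Subgroup.zpowers x'
  have hMc : M ≤ (Subgroup.centralizer ({(x' : G ⧸ N)} : Set (G ⧸ N))).comap (QuotientGroup.mk' N) := by
    refine sup_le ?_ ?_ <;>
      rw [Subgroup.zpowers_le, Subgroup.mem_comap, Subgroup.mem_centralizer_singleton_iff]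
    · first | exact hq | exact hq.symm
    · rfl
  have hxM : x ∈ M := Subgroup.mem_sup_left (Subgroup.mem_zpowers x)
  have hx'M : x' ∈ M := Subgroup.mem_sup_right (Subgroup.mem_zpowers x')
  have hxp : IsPGroup p (Subgroup.zpowers (⟨x, hxM⟩ : M)) := by
    refine isPGroup_zpowers ?_; rwa [Subgroup.orderOf_mk]
  have hx'p : IsPGroup p (Subgroup.zpowers (⟨x', hx'M⟩ : M)) := by
    refine isPGroup_zpowers ?_
    obtain ⟨k, hk⟩ := hx
    refine ⟨k, ?_⟩
    rw [Subgroup.orderOf_mk, hx'def, ← MulAut.conj_apply, MulEquiv.orderOf_eq, hk]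
  obtain ⟨P, hP⟩ := hxp.exists_le_sylow
  obtain ⟨Q, hQ⟩ := hx'p.exists_le_sylow
  obtain ⟨m, hm⟩ := MulAction.exists_smul_eq M Q P
  have hmem : m * ⟨x', hx'M⟩ * m⁻¹ ∈ (P : Subgroup M) := by
    rw [← hm, Sylow.coe_subgroup_smul]
    exact Subgroup.mem_map.2 ⟨⟨x', hx'M⟩, hQ (Subgroup.mem_zpowers _), by rfl⟩
  have h2 : ((m : G) * g) * x * ((m : G) * g)⁻¹ ∈ (P : Subgroup M).map M.subtype := by
    refine ⟨_, hmem, ?_⟩
    simp [hx'def, mul_assoc]
  have hxP : x ∈ (P : Subgroup M).map M.subtype := ⟨⟨x, hxM⟩, hP (Subgroup.mem_zpowers _), rfl⟩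
  have h3 := conj_eq_of_mem hiso (P.2.map M.subtype) hxP _ h2
  have h4 : (m : G) * x' * (m : G)⁻¹ = x := by rw [← h3, hx'def]; group
  have h5 := Subgroup.mem_centralizer_singleton_iff.1 (hMc m.2)
  simp only [QuotientGroup.mk'_apply] at h5
  have h6 : ((m : G) : G ⧸ N) * (x' : G ⧸ N) * ((m : G) : G ⧸ N)⁻¹ = (x' : G ⧸ N) := by
    first
      | rw [h5, mul_inv_cancel_right]
      | rw [← h5, mul_inv_cancel_right]
  rw [← QuotientGroup.mk_inv, ← QuotientGroup.mk_mul, ← QuotientGroup.mk_mul, h4] at h6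
  exact h6.symm

/-- With cyclic Sylow subgroups, a nontrivial isolated `p`-element gives a normal `p`-complement. -/
theorem exists_complement {x : G} (hiso : Cfsg.IsIsolated x) (hx1 : x ≠ 1) (P : Sylow p G)
    [IsCyclic (P : Subgroup G)] (hxP : x ∈ (P : Subgroup G)) :
    ∃ N : Subgroup G, N.Normal ∧ N.IsComplement' (P : Subgroup G) := by
  have hN : Subgroup.normalizer ((P : Subgroup G) : Set G) ≤ Subgroup.centralizer ((P : Subgroup G) : Set G) := by
    intro n hn
    obtain ⟨a, ha⟩ := IsCyclic.exists_generator (α := (P : Subgroup G))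
    have hmem : ∀ y ∈ (P : Subgroup G), ∃ s : ℤ, (a : G) ^ s = y := by
      intro y hy
      obtain ⟨s, hs⟩ := Subgroup.mem_zpowers_iff.1 (ha ⟨y, hy⟩)
      exact ⟨s, by simpa using congrArg Subtype.val hs⟩
    obtain ⟨i, hi⟩ := hmem _ ((Subgroup.mem_normalizer_iff.1 hn a).1 a.2)
    obtain ⟨j, hj⟩ := hmem x hxP
    obtain ⟨e, he⟩ := (IsPGroup.iff_orderOf.1 P.2) a
    have hao : orderOf (a : G) = p ^ e := by rw [Subgroup.orderOf_coe, he]
    have hfix : n * x * n⁻¹ = x :=
      conj_eq_of_mem hiso P.2 hxP n ((Subgroup.mem_normalizer_iff.1 hn x).1 hxP)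
    have hd : (p : ℤ) ^ e ∣ j * (i - 1) := by
      have h1 : (a : G) ^ (i * j) = (a : G) ^ j := by
        rw [zpow_mul, hi, conj_zpow, hj, hfix]
      have h2 : (a : G) ^ (j * (i - 1)) = 1 := by
        rw [show j * (i - 1) = i * j - j by ring, zpow_sub, h1, mul_inv_cancel]
      have := orderOf_dvd_iff_zpow_eq_one.2 h2
      rw [hao] at this; exact_mod_cast this
    have hnd : ¬ ((p : ℤ) ^ e ∣ j) := by
      intro h
      apply hx1
      rw [← hj, ← orderOf_dvd_iff_zpow_eq_one, hao]; exact_mod_cast h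
    have hi1 : (p : ℤ) ∣ i - 1 := by
      by_contra h
      exact hnd (((Nat.prime_iff_prime_int.1 Fact.out).coprime_iff_not_dvd.2 h).pow_left.dvd_of_dvd_mul_right hd)
    have hconj : ∀ k : ℕ, n ^ k * (a : G) * (n ^ k)⁻¹ = (a : G) ^ (i ^ k) := by
      intro k; induction k with
      | zero => simp
      | succ k ihk =>
        calc n ^ (k + 1) * (a : G) * (n ^ (k + 1))⁻¹
            = n * (n ^ k * (a : G) * (n ^ k)⁻¹) * n⁻¹ := by rw [pow_succ']; group
          _ = (n * (a : G) * n⁻¹) ^ (i ^ k) := by rw [ihk, conj_zpow]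
          _ = (a : G) ^ (i ^ (k + 1)) := by rw [← hi, ← zpow_mul, pow_succ']
    have hipe : (p : ℤ) ^ e ∣ i ^ p ^ e - 1 := by
      have := dvd_sub_pow_of_dvd_sub (a := i) (b := 1) (by simpa using hi1) e
      rw [one_pow] at this
      exact dvd_trans (pow_dvd_pow _ (Nat.le_succ e)) (by exact_mod_cast this)
    have hc1 : Commute (n ^ p ^ e) (a : G) := by
      have h := hconj (p ^ e)
      have : (a : G) ^ (i ^ p ^ e - 1) = 1 := by
        rw [← orderOf_dvd_iff_zpow_eq_one, hao]; exact_mod_cast hipe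
      rw [show i ^ p ^ e = (i ^ p ^ e - 1) + 1 by ring, zpow_add, this, one_mul, zpow_one] at h
      exact mul_inv_eq_iff_eq_mul.1 h
    obtain ⟨c, m, hm, hcm⟩ := Nat.exists_eq_pow_mul_and_not_dvd (orderOf_pos n).ne' p (Fact.out : p.Prime).ne_one
    have hnm : n ^ m ∈ (P : Subgroup G) := by
      have hR : IsPGroup p (Subgroup.zpowers (n ^ m)) := by
        refine isPGroup_zpowers ⟨c, ?_⟩
        have hm0 : m ≠ 0 := fun h => hm (by simp [h])
        rw [orderOf_pow' _ hm0, hcm, Nat.gcd_mul_left_left, Nat.mul_div_cancel _ (Nat.pos_of_ne_zero hm0)]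
      have h6 : n ^ m ∈ Subgroup.zpowers (n ^ m) ⊓ Subgroup.normalizer (P : Set G) :=
        ⟨Subgroup.mem_zpowers _, pow_mem hn m⟩
      rw [hR.inf_normalizer_sylow P] at h6
      exact h6.2
    have hc2 : Commute (n ^ m) (a : G) := by
      obtain ⟨s, hs⟩ := hmem _ hnm
      rw [← hs]; exact Commute.zpow_self _ _
    have hc : Commute n (a : G) := by
      obtain ⟨u, v, huv⟩ : IsCoprime ((p ^ e : ℕ) : ℤ) (m : ℤ) := by
        exact_mod_cast Nat.Coprime.pow_left e (((Fact.out : p.Prime).coprime_iff_not_dvd).2 hm)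
      have : n = (n ^ p ^ e) ^ u * (n ^ m) ^ v := by
        rw [← zpow_natCast n (p ^ e), ← zpow_natCast n m, ← zpow_mul, ← zpow_mul, ← zpow_add,
          mul_comm _ u, mul_comm _ v, huv, zpow_one]
      rw [this]
      exact (hc1.zpow_left u).mul_left (hc2.zpow_left v)
    rw [Subgroup.mem_centralizer_iff]
    intro y hy
    obtain ⟨s, rfl⟩ := hmem y hy
    exact ((hc.zpow_right s).symm).eq
  exact ⟨_, inferInstance, MonoidHom.ker_transferSylow_isComplement' P hN⟩

end CfsgLib.IsolatedP
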