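import Mathlib.GroupTheory.SchurZassenhaus
import Cfsg.Agent.IsolatedP.Basic
import Cfsg.Agent.LocalEven50.Isolated
import Cfsg.Agent.RankTwoOdd.Main
import Cfsg.Agent.Solvable.Nilpotent
import Cfsg.Agent.Solvable.Frattini
import Cfsg.Agent.Coprime.Action
import Cfsg.Agent.S5076
import Cfsg.Agent.S5234
import Cfsg.Agent.S1447

/-!
# Sylow subgroups of rank two holding an isolated element, in a perfect group

If `p` is odd, `x` is isolated of order `p` in the perfect group `G` and a Sylow `p`-subgroup `P`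
through `x` has rank at most two, then `P` is extraspecial of order `p ^ 3` and exponent `p`, or
`p = 3` and `P` has maximal class and order `3 ^ (2 k + 1)`.  The proof is by transfer.
-/

namespace CfsgLib.IsolatedP

open Subgroup CfsgLib.RankTwoOdd
open scoped commutatorElement

set_option linter.unusedSectionVars false

universe u

theorem mem_zpowers_of_mem_of_ne_one {G : Type*} [Group G] [Finite G] {p : ℕ} [hp : Fact p.Prime]
    {x v : G} (hx : x ^ p = 1) (hv : v ∈ zpowers x) (hv1 : v ≠ 1) : x ∈ zpowers v := by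
  have hx1 : x ≠ 1 := fun h => hv1 (by rw [h, zpowers_one_eq_bot, mem_bot] at hv; exact hv)
  have hd : orderOf v ∣ p := by
    rw [← orderOf_eq_prime hx hx1]; exact orderOf_dvd_of_mem_zpowers hv
  have hvo : orderOf v = p :=
    ((Nat.dvd_prime hp.out).mp hd).resolve_left (mt orderOf_eq_one_iff.mp hv1)
  exact (Subgroup.eq_of_le_of_card_ge (zpowers_le.mpr hv)
    (by rw [Nat.card_zpowers, Nat.card_zpowers, hvo, orderOf_eq_prime hx hx1])).ge (mem_zpowers x)

/-- A conjugate of an isolated element is isolated. -/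
theorem isIsolated_conj {G : Type*} [Group G] {x : G} (hiso : Cfsg.IsIsolated x) (g : G) :
    Cfsg.IsIsolated (g * x * g⁻¹) := by
  intro w hw
  have hcc : ∀ a : G, g⁻¹ * (g * a * g⁻¹) * g = a := fun a => by group
  have h : Commute x ((g⁻¹ * w * g) * x * (g⁻¹ * w * g)⁻¹) := by
    have h0 : Commute (g * x * g⁻¹) (w * (g * x * g⁻¹) * w⁻¹) := by first | exact hw | exact hw.symm
    have := h0.map (MulAut.conj g⁻¹).toMonoidHom
    simpa [mul_assoc] using this
  have h' := hiso (g⁻¹ * w * g) h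
  calc w * (g * x * g⁻¹) * w⁻¹ = g * ((g⁻¹ * w * g) * x * (g⁻¹ * w * g)⁻¹) * g⁻¹ := by group
    _ = g * x * g⁻¹ := by rw [h']

/-! ### Fusion and transfer -/

section Fusion

variable {G : Type u} [Group G] [Finite G] {p : ℕ} [hp : Fact p.Prime]

/-- Fusion of elements centralized by an isolated element `x` is done inside `C(x)`. -/
theorem exists_fix_conj {x : G} (hiso : Cfsg.IsIsolated x) (hx : orderOf x = p) {u g : G}
    (h1 : Commute x u) (h2 : Commute x (g * u * g⁻¹)) :
    ∃ n : G, n * x * n⁻¹ = x ∧ n * u * n⁻¹ = g * u * g⁻¹ := by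
  have hxp : IsPGroup p (zpowers x) := isPGroup_zpowers ⟨1, by rw [hx, pow_one]⟩
  have hxN : x ∈ centralizer ({g * u * g⁻¹} : Set G) := mem_centralizer_singleton_iff.mpr h2.eq
  have hgN : g * x * g⁻¹ ∈ centralizer ({g * u * g⁻¹} : Set G) :=
    mem_centralizer_singleton_iff.mpr (by rw [conj_mul, conj_mul, h1.eq])
  obtain ⟨n, hn, hc⟩ := CfsgLib.LocalEven50.exists_mul_commute hiso hxp hxN hgN
  refine ⟨n * g, mul_inv_eq_iff_eq_mul.mpr hc, ?_⟩
  have h := mem_centralizer_singleton_iff.mp hn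
  calc n * g * u * (n * g)⁻¹ = n * (g * u * g⁻¹) * n⁻¹ := by group
    _ = g * u * g⁻¹ := mul_inv_eq_iff_eq_mul.mpr h

/-- Transfer: in a perfect group a homomorphism of a Sylow subgroup into an abelian group cannot
respect the conjugates of all powers of an element outside its kernel. -/
theorem eq_one_of_transfer (hperf : commutator G = ⊤) (P : Sylow p G) {A : Type*} [CommGroup A]
    (φ : (P : Subgroup G) →* A) (u : (P : Subgroup G))
    (key : ∀ (m : ℕ) (g : G) (h : g * (u : G) ^ m * g⁻¹ ∈ (P : Subgroup G)),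
      φ ⟨g * (u : G) ^ m * g⁻¹, h⟩ = φ u ^ m) : φ u = 1 := by
  classical
  have : Fintype (Quotient (MulAction.orbitRel (zpowers (u : G)) (G ⧸ (P : Subgroup G)))) :=
    Fintype.ofFinite _
  have h1 : MonoidHom.transfer φ (u : G) = φ u ^ (P : Subgroup G).index := by
    rw [index_eq_sum_minimalPeriod (P : Subgroup G) (u : G), ← Finset.prod_pow_eq_pow_sum,
      MonoidHom.transfer_eq_prod_quotient_orbitRel_zpowers_quot]
    refine Finset.prod_congr rfl fun q _ => ?_
    have h := QuotientGroup.out_conj_pow_minimalPeriod_mem (P : Subgroup G) (u : G) q.out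
    have hk := key (Function.minimalPeriod ((u : G) • ·) q.out) q.out.out⁻¹ (by
      rwa [inv_inv])
    simpa only [inv_inv] using hk
  have h2 : MonoidHom.transfer φ (u : G) = 1 :=
    Abelianization.commutator_subset_ker _ (hperf.ge (mem_top (u : G)))
  obtain ⟨e, he⟩ := IsPGroup.iff_orderOf.mp P.2 u
  have h3 : orderOf (φ u) ∣ p ^ e := he ▸ orderOf_map_dvd φ u
  have h4 : orderOf (φ u) ∣ (P : Subgroup G).index := orderOf_dvd_of_pow_eq_one (h1.symm.trans h2)
  exact orderOf_eq_one_iff.mp (Nat.eq_one_of_dvd_coprimes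
    (((Fact.out : p.Prime).coprime_iff_not_dvd.mpr P.not_dvd_index).pow_left e) h3 h4)

end Fusion

/-! ### The metacyclic case -/

section Metacyclic

variable {G : Type u} [Group G] [Finite G] {p : ℕ} [hp : Fact p.Prime]

/-- A metacyclic Sylow subgroup controls fusion. -/
theorem exists_normalizer_conj (hp2 : p ≠ 2) (P : Sylow p G)
    (hm : Cfsg.IsMetacyclic (P : Subgroup G)) {v g : G} (hv : v ∈ (P : Subgroup G))
    (hgv : g * v * g⁻¹ ∈ (P : Subgroup G)) :
    ∃ n ∈ normalizer ((P : Subgroup G) : Set G), n * v * n⁻¹ = g * v * g⁻¹ := by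
  set S : Subgroup G := (P : Subgroup G)
  have hF := Cfsg.Agent.S5076.result p P
  have hsc : (Cfsg.groupFusionSystem S).StronglyClosed S :=
    ⟨le_rfl, fun R _ φ hφ x => hφ.2.1 x⟩
  have hN := Cfsg.Agent.S5234.result p P.2 (Cfsg.groupFusionSystem S) hF S hsc hp2 hm
  have hle : zpowers v ≤ S := zpowers_le.mpr hv
  have hval : ∀ y : zpowers v, Cfsg.conjHom (zpowers v) g y ∈ S := by
    rintro ⟨y, hy⟩
    obtain ⟨j, rfl⟩ := mem_zpowers_iff.mp hy
    show g * v ^ j * g⁻¹ ∈ S
    rw [← conj_zpow]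
    exact zpow_mem hgv j
  obtain ⟨ψ, ⟨-, -, n, hn⟩, hext, himg⟩ := hN.2 (zpowers v) (Cfsg.conjHom (zpowers v) g)
    ⟨hle, hval, g, fun _ => rfl⟩
  refine ⟨n, ?_, ?_⟩
  · rw [mem_normalizer_iff_map_conj_eq]
    refine Subgroup.eq_of_le_of_card_ge ?_ (card_map_of_injective (MulEquiv.injective _)).ge
    rintro _ ⟨s, hs, rfl⟩
    have h : ψ (inclusion le_sup_right ⟨s, hs⟩) ∈
        (S.subgroupOf (zpowers v ⊔ S)).map ψ := mem_map_of_mem _ hs
    rw [himg, hn] at h
    exact h
  · have h := hext ⟨v, mem_zpowers v⟩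
    rw [hn] at h
    exact h

theorem false_of_metacyclic (hperf : commutator G = ⊤) (hp2 : p ≠ 2) {x : G}
    (hx : orderOf x = p) (hiso : Cfsg.IsIsolated x) (P : Sylow p G) (hxP : x ∈ (P : Subgroup G))
    (hm : Cfsg.IsMetacyclic (P : Subgroup G)) : False := by
  set S : Subgroup G := (P : Subgroup G) with hS
  set N := normalizer (S : Set G) with hNdef
  have hSN : S ≤ N := le_normalizer
  -- `P` is generated by the commutators with its normalizer
  have hfoc : S ≤ ⁅S, N⁆ := by
    have h1 : S.focalSubgroup = S := by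
      rw [hS, ← commutator_inf_eq_focalSubgroup P, hperf, top_inf_eq]
    conv_lhs => rw [← h1]
    rw [focalSubgroup_def, closure_le]
    rintro _ ⟨hc, a, ha, w, rfl⟩
    have hw : w * a⁻¹ * w⁻¹ ∈ S := by
      have := mul_mem (inv_mem ha) hc
      simpa [commutatorElement_def, mul_assoc] using this
    obtain ⟨n, hn, hnw⟩ := exists_normalizer_conj hp2 P hm (inv_mem ha) hw
    have : ⁅a, w⁆ = ⁅a, n⁆ := by
      rw [commutatorElement_def, commutatorElement_def, mul_assoc a, mul_assoc a,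
        mul_assoc a, mul_assoc a, hnw]
    rw [this]
    exact commutator_mem_commutator ha hn
  -- a complement
  have : (S.subgroupOf N).Normal := normal_in_normalizer
  have hcop : (Nat.card (S.subgroupOf N)).Coprime (S.subgroupOf N).index := by
    obtain ⟨k, hk⟩ := P.2.exists_card_eq
    rw [Nat.card_congr (subgroupOfEquivOfLe hSN).toEquiv, hk]
    exact ((Fact.out : p.Prime).coprime_iff_not_dvd.mpr fun h => P.not_dvd_index
      (h.trans (relIndex_dvd_index_of_le hSN))).pow_left k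
  obtain ⟨A₀, hA₀⟩ := exists_right_complement'_of_coprime hcop
  set A : Subgroup G := A₀.map N.subtype with hA
  have hAN : A ≤ N := map_subtype_le A₀
  have hAcop : (Nat.card A).Coprime p := by
    rw [hA, card_map_of_injective N.subtype_injective, ← hA₀.symm.index_eq_card]
    exact ((Fact.out : p.Prime).coprime_iff_not_dvd.mpr fun h => P.not_dvd_index
      (h.trans (relIndex_dvd_index_of_le hSN))).symm
  obtain ⟨-, -, hdisj, hnab⟩ := Cfsg.Agent.S1447.result p hp2 S A P.2 hm hAN hAcop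
  -- `[P, N] ≤ [P, A] [P, P]`
  set D := ⁅S, A⁆ ⊔ ⁅S, S⁆ with hD
  have hDN : S ⊔ A ≤ normalizer (D : Set G) := by
    intro g hg
    have h1 : g ∈ normalizer ((⁅S, A⁆ : Subgroup G) : Set G) :=
      CfsgLib.Coprime.sup_le_normalizer_commutator S A hg
    have h2 : g ∈ normalizer ((⁅S, S⁆ : Subgroup G) : Set G) :=
      CfsgLib.FusionOmega.mem_normalizer_commutator (sup_le hSN hAN hg) (sup_le hSN hAN hg)
    rw [mem_normalizer_iff_map_conj_eq] at h1 h2 ⊢
    rw [hD, Subgroup.map_sup, h1, h2]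
  have hND : ⁅S, N⁆ ≤ D := by
    rw [commutator_le]
    intro s hs w hw
    obtain ⟨⟨q, a⟩, hqa : (q : N) * (a : N) = ⟨w, hw⟩⟩ := hA₀.2 ⟨w, hw⟩
    have hq : ((q : N) : G) ∈ S := q.2
    have ha : ((a : N) : G) ∈ A := mem_map_of_mem _ a.2
    have hwq : w = ((q : N) : G) * ((a : N) : G) := (congrArg Subtype.val hqa).symm
    rw [hwq, show ⁅s, ((q : N) : G) * ((a : N) : G)⁆ = ⁅s, ((q : N) : G)⁆ *
      (((q : N) : G) * ⁅s, ((a : N) : G)⁆ * ((q : N) : G)⁻¹) by
        simp only [commutatorElement_def]; group]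
    exact mul_mem (mem_sup_right (commutator_mem_commutator hs hq))
      ((mem_normalizer_iff.mp (hDN (mem_sup_left hq)) _).mp
        (mem_sup_left (commutator_mem_commutator hs ha)))
  have hxA : x ∈ S ⊓ centralizer (A : Set G) := ⟨hxP, mem_centralizer_iff.mpr fun a ha =>
    mul_inv_eq_iff_eq_mul.mp (conj_eq_of_mem hiso P.2 hxP a
      ((mem_normalizer_iff.mp (hAN ha) x).mp hxP))⟩
  have hx1 : x ≠ 1 := fun h => (Fact.out : p.Prime).ne_one (by rw [← hx, h, orderOf_one])
  by_cases hc : ⁅S, S⁆ ≤ ⁅S, A⁆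
  · have h2 : x ∈ ⁅S, A⁆ := (hfoc.trans (hND.trans (sup_le le_rfl hc))) hxP
    have h3 : x ∈ ⁅S, A⁆ ⊓ (S ⊓ centralizer (A : Set G)) := ⟨h2, hxA⟩
    rw [hdisj, mem_bot] at h3
    exact hx1 h3
  · have hAc : A ≤ centralizer (S : Set G) := by
      by_contra hA'
      refine hc (hnab (fun hab => hc ?_) hA').2.2.2.2
      rw [commutator_eq_bot_iff_le_centralizer.mpr
        (le_centralizer_iff_isMulCommutative.mpr hab)]
      exact bot_le
    have h4 : ⁅S, A⁆ = ⊥ := by
      rw [commutator_comm, commutator_eq_bot_iff_le_centralizer]; exact hAc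
    rw [hD, h4, bot_sup_eq] at hND
    haveI : Group.IsNilpotent S := P.2.isNilpotent
    haveI : Nontrivial S := (nontrivial_iff_exists_ne_one S).mpr ⟨x, hxP, hx1⟩
    have h5 := IsSolvable.commutator_lt_top_of_nontrivial S
    refine h5.ne (top_unique fun s _ => ?_)
    have h6 : (s : G) ∈ (commutator S).map S.subtype := by
      rw [map_subtype_commutator]; exact hND (hfoc s.2)
    obtain ⟨t, ht, hts⟩ := h6
    exact (Subtype.ext hts : t = s) ▸ ht

end Metacyclic

/-! ### Facts about a `Setup` -/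

section Setup

variable {p : ℕ} {Q : Type u} [Group Q] [Finite Q] [hp : Fact p.Prime] (S : Setup p Q)

theorem C_eq_zpowers {x : Q} (hx : orderOf x = p) (hc : ∀ g, Commute x g) : S.C = zpowers x := by
  have hxK : x ∈ S.K := fun e _ => (hc e).eq.symm
  have hxE : x ∈ S.E := S.mem_E x hxK (hx ▸ pow_orderOf_eq_one x)
  exact (Subgroup.eq_of_le_of_card_ge (zpowers_le.mpr (S.cen_E x hxE hc))
    (S.card_C.le.trans (by rw [Nat.card_zpowers, hx]))).symm

theorem K_sup_zpowers {a : Q} (ha : a ∉ S.K) : S.K ⊔ zpowers a = ⊤ :=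
  S.eq_top_of_K_le le_sup_left (mem_sup_right (mem_zpowers a)) ha

theorem pow_mem_K (g : Q) : g ^ p ∈ S.K := by
  have h := pow_index_mem S.K g
  rwa [show S.K.index = p from S.index_eq] at h

/-- Without `TZero` an element outside `K` centralizes only `C` modulo `C` in `P l`. -/
theorem mem_E_of_comm (h : ¬ S.TZero) {g y : Q} (hg : g ∉ S.K) (hy : y ∈ S.K)
    (hc : ⁅g, y⁆ ∈ S.C) : y ∈ S.E := by
  obtain ⟨l, hl⟩ := S.exists_mem_O hy
  induction l with
  | zero => exact S.mem_O_one.mp (S.O_mono (Nat.zero_le 1) hl)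
  | succ l ih =>
    rcases Nat.eq_zero_or_pos l with rfl | hl0
    · exact S.mem_O_one.mp hl
    obtain ⟨q, rfl⟩ : ∃ q, l = q + 1 := ⟨l - 1, by omega⟩
    have hCO : S.C ≤ S.O (q + 1) := fun z hz =>
      S.O_mono (by omega) (S.mem_O_one.mpr (S.C_le_E hz))
    by_cases hP : y ∈ S.P (q + 1)
    · obtain ⟨h1, hiff⟩ := S.R4 hP g
      have h2 : ⁅g, y⁆ ∈ S.P q := ⟨S.comm_mem_K hy g, pow_mem hc _⟩
      by_cases hE : y ^ p ^ q ∈ S.E
      · exact ih ⟨hy, by rw [pow_succ, pow_mul]; exact S.pow_E _ hE⟩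
      · exact absurd (hiff.mp h2) (S.move h hg h1 hE)
    · exact absurd (hCO hc) (S.R2 hl hP hg)

theorem mem_C_of_commute (h : ¬ S.TZero) {g y : Q} (hg : g ∉ S.K) (hy : y ∈ S.K)
    (hc : Commute g y) : y ∈ S.C := by
  have h1 : ⁅g, y⁆ = 1 := commutatorElement_eq_one_iff_commute.mpr hc
  by_contra hyC
  exact S.comm_E_ne (mem_E_of_comm S h hg hy (h1 ▸ one_mem _)) hyC hg h1

theorem cube_mem_C (h : ¬ S.TZero) {g : Q} (hg : g ∉ S.K) : g ^ p ∈ S.C :=
  mem_C_of_commute S h hg (pow_mem_K S g) (Commute.self_pow g p)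

omit [Finite Q] in
/-- The power of a product along a short unipotent chain. -/
theorem mul_pow_chain {X : Type*} [Group X] {g k d e : X} (h1 : g * k * g⁻¹ = d * k)
    (h2 : g * d * g⁻¹ = e * d) (he : Commute g e) (hkd : Commute k d) (hke : Commute k e)
    (hde : Commute d e) (m : ℕ) :
    (k * g) ^ m = k ^ m * d ^ m.choose 2 * e ^ m.choose 3 * g ^ m := by
  induction m with
  | zero => simp [Nat.choose]
  | succ m ih =>
    have ht := pow_twist h1 h2 (f := 1) (by rw [one_mul, he.eq, mul_inv_cancel_right])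
      (Commute.one_right g) hde (Commute.one_right d) (Commute.one_right e) m
    rw [one_pow, mul_one, mul_inv_eq_iff_eq_mul] at ht
    calc (k * g) ^ (m + 1) = k ^ m * d ^ m.choose 2 * e ^ m.choose 3 * (g ^ m * k) * g := by
          rw [pow_succ, ih]; simp only [mul_assoc]
      _ = k ^ m * (d ^ m.choose 2 * (e ^ m.choose 3 * d ^ m)) * e ^ m.choose 2 * k * g ^ (m + 1) := by
          rw [ht, pow_succ g]; simp only [mul_assoc]
      _ = k ^ m * (d ^ (m.choose 2 + m) * e ^ m.choose 3) * e ^ m.choose 2 * k * g ^ (m + 1) := by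
          rw [(hde.symm.pow_pow (m.choose 3) m).eq, ← mul_assoc (d ^ m.choose 2), ← pow_add]
      _ = k ^ m * (d ^ (m + 1).choose 2 * e ^ (m + 1).choose 3 * k) * g ^ (m + 1) := by
          rw [Nat.choose_succ_succ' m 1, Nat.choose_succ_succ' m 2, Nat.choose_one_right,
            add_comm m (m.choose 2), add_comm (m.choose 2) (m.choose 3), pow_add e]
          simp only [mul_assoc]
      _ = _ := by
          rw [((hkd.symm.pow_left _).mul_left (hke.symm.pow_left _)).eq, ← mul_assoc (k ^ m),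
            ← pow_succ]
          simp only [mul_assoc]

theorem choose_three_dvd (h : 3 < p) : p ∣ p.choose 3 :=
  hp.out.dvd_choose_self (by norm_num) h

/-- In the narrow case the top power map ignores a complement element of order `p`. -/
theorem mul_pow_narrow {g k : Q} (hgK : g ∉ S.K) (hgp : g ^ p = 1)
    (h2 : S.O 2 ≤ S.P 1) {T : ℕ} (hT : S.K ≤ S.O (T + 2))
    (hor : T = 0 → 3 < p ∨ S.TZero) (hk : k ∈ S.K) :
    (k * g) ^ p ^ (T + 1) = k ^ p ^ (T + 1) := by
  have hP : ∀ l, S.O (l + 2) ≤ S.P (l + 1) := by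
    intro l x hx
    have h1 : x ^ p ^ l ∈ S.O 2 := ⟨pow_mem hx.1 _, by rw [← pow_mul, ← pow_add]; exact hx.2⟩
    have h1' := (h2 h1).2
    rw [pow_one, ← pow_mul, ← pow_succ] at h1'
    exact ⟨hx.1, h1'⟩
  have hkP : k ∈ S.P (T + 1) := hP T (hT hk)
  set d := ⁅g, k⁆ with hd
  have hdO : d ∈ S.O (T + 1) := S.R3 hkP g
  set e := ⁅g, d⁆ with he
  set N := S.O T with hN
  have hdp : d ^ p ∈ N := ⟨pow_mem hdO.1 _, by rw [← pow_mul, ← pow_succ']; exact hdO.2⟩
  obtain ⟨hkd, hge, hke, hde, hep, hee⟩ : ⁅k, d⁆ ∈ N ∧ ⁅g, e⁆ ∈ N ∧ ⁅k, e⁆ ∈ N ∧ ⁅d, e⁆ ∈ N ∧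
      e ^ p ∈ N ∧ (3 < p ∨ e ∈ N) := by
    rcases T with - | q
    · have hdE : d ∈ S.E := S.mem_O_one.mp hdO
      have heC : e ∈ S.C := S.comm_E hdE g
      have h1 : ∀ z : Q, ⁅z, e⁆ = 1 := fun z =>
        commutatorElement_eq_one_iff_commute.mpr (S.C_central heC z).symm
      refine ⟨?_, by rw [h1]; exact one_mem _, by rw [h1]; exact one_mem _,
        by rw [h1]; exact one_mem _, by rw [S.pow_C heC]; exact one_mem _, ?_⟩
      · rw [commutatorElement_eq_one_iff_commute.mpr (S.commute_E_K hdE hk).symm]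
        exact one_mem _
      · refine (hor rfl).imp id fun hT0 => ?_
        rw [he, commutatorElement_eq_one_iff_commute.mpr (S.C_central (hT0 g k hkP) g).symm]
        exact one_mem _
    · have hdP : d ∈ S.P (q + 1) := hP q hdO
      have heN : e ∈ N := S.R3 hdP g
      exact ⟨S.R3 hdP k, CfsgLib.RankTwoOdd.Setup.comm_mem heN g,
        CfsgLib.RankTwoOdd.Setup.comm_mem heN k, CfsgLib.RankTwoOdd.Setup.comm_mem heN d,
        pow_mem heN p, Or.inr heN⟩
  have hmem : (k ^ p)⁻¹ * (k * g) ^ p ∈ N := by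
    rw [← QuotientGroup.eq_one_iff, ← QuotientGroup.mk'_apply N, map_mul, map_inv, map_pow,
      map_pow, map_mul]
    have hq : ∀ {z : Q}, z ∈ N → QuotientGroup.mk' N z = 1 := fun hz =>
      (QuotientGroup.eq_one_iff _).mpr hz
    have hcm : ∀ {y z : Q}, ⁅y, z⁆ ∈ N → Commute (QuotientGroup.mk' N y) (QuotientGroup.mk' N z) :=
      fun hyz => commutatorElement_eq_one_iff_commute.mp (by rw [← map_commutatorElement]; exact hq hyz)
    rw [mul_pow_chain (g := QuotientGroup.mk' N g) (k := QuotientGroup.mk' N k)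
      (d := QuotientGroup.mk' N d) (e := QuotientGroup.mk' N e)
      (by rw [← map_inv, ← map_mul, ← map_mul, ← map_mul, Setup.conj_eq])
      (by rw [← map_inv, ← map_mul, ← map_mul, ← map_mul, Setup.conj_eq])
      (hcm hge) (hcm hkd) (hcm hke) (hcm hde)]
    obtain ⟨c, hc⟩ := S.choose_two_dvd
    have hd1 : QuotientGroup.mk' N d ^ p.choose 2 = 1 := by
      rw [hc, pow_mul, ← map_pow, hq hdp, one_pow]
    have he1 : QuotientGroup.mk' N e ^ p.choose 3 = 1 := by
      rcases hee with h3 | h3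
      · obtain ⟨c', hc'⟩ := choose_three_dvd h3
        rw [hc', pow_mul, ← map_pow, hq hep, one_pow]
      · rw [hq h3, one_pow]
    have hg1 : QuotientGroup.mk' N g ^ p = 1 := by rw [← map_pow, hgp, map_one]
    rw [hd1, he1, hg1]
    simp
  have hkg : (k * g) ^ p = k ^ p * ((k ^ p)⁻¹ * (k * g) ^ p) := by group
  rw [pow_succ', pow_mul, pow_mul, hkg,
    S.exact_pow (pow_mem hk p) hmem.1 (by rw [pow_succ, pow_mul, hmem.2, one_pow]), hmem.2,
    mul_one]

end Setup

/-! ### The two remaining cases -/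

section Cases

variable {G : Type u} [Group G] [Finite G] {p : ℕ} [hp : Fact p.Prime] {x : G} (P : Sylow p G)

/-- A power map onto `⟨x⟩` that is a homomorphism is impossible. -/
theorem false_of_pow_hom (hperf : commutator G = ⊤) (hx : orderOf x = p)
    (hiso : Cfsg.IsIsolated x) (hxP : x ∈ (P : Subgroup G)) (q : ℕ)
    (hmem : ∀ y : (P : Subgroup G), (y : G) ^ q ∈ zpowers x)
    (hmul : ∀ y z : (P : Subgroup G), (y * z) ^ q = y ^ q * z ^ q)
    {u : (P : Subgroup G)} (hu : u ^ q ≠ 1) : False := by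
  letI : CommGroup (zpowers x) :=
    { (inferInstance : Group (zpowers x)) with
      mul_comm := fun a b => setLike_mul_comm a.2 b.2 |> fun h => Subtype.ext h }
  let φ : (P : Subgroup G) →* zpowers x := MonoidHom.mk' (fun y => ⟨(y : G) ^ q, hmem y⟩)
    fun y z => Subtype.ext (by simpa using congrArg Subtype.val (hmul y z))
  refine hu ?_
  have h := eq_one_of_transfer hperf P φ u fun m g hg => ?_
  · have h' : ((φ u : zpowers x) : G) = 1 := by rw [h]; rfl
    exact Subtype.ext (by simpa [φ] using h')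
  have hcx := commute_of_mem hiso P.2 hxP
  obtain ⟨n, hnx, hn⟩ := exists_fix_conj hiso hx (u := (u : G) ^ m) (g := g)
    (hcx _ (pow_mem u.2 m)).symm (hcx _ hg).symm
  refine Subtype.ext ?_
  show (g * (u : G) ^ m * g⁻¹) ^ q = ((((φ u) ^ m : zpowers x)) : G)
  rw [SubgroupClass.coe_pow]
  show _ = ((u : G) ^ q) ^ m
  rw [← hn, conj_pow, ← pow_mul, ← pow_mul, mul_comm m q, pow_mul]
  obtain ⟨i, hi⟩ := mem_zpowers_iff.mp (pow_mem (hmem u) m)
  rw [← hi, ← conj_zpow, hnx]

/-- An element of order above `p` in `K` is not fused to one outside `K`. -/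
theorem mem_K_of_fused (hx : orderOf x = p) (hiso : Cfsg.IsIsolated x)
    (hxP : x ∈ (P : Subgroup G)) (S : Setup p (P : Subgroup G)) (hC : S.C = zpowers ⟨x, hxP⟩)
    (hT : ¬ S.TZero) {w v : (P : Subgroup G)} (hw : w ∈ S.K) (hwp : w ^ p ≠ 1) {n : G}
    (hn : n * (w : G) * n⁻¹ = v) : v ∈ S.K := by
  classical
  by_contra hv
  set x' : (P : Subgroup G) := ⟨x, hxP⟩ with hx'
  have hx'o : orderOf x' = p := by rw [hx', orderOf_mk, hx]
  have hvp : v ^ p ≠ 1 := by
    intro h
    refine hwp (Subtype.ext ?_)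
    have h' : ((v : G)) ^ p = 1 := by simpa using congrArg Subtype.val h
    rw [← hn, conj_pow, mul_inv_eq_one, mul_eq_left] at h'
    simpa using h'
  have hvC : v ^ p ∈ S.C := cube_mem_C S hT hv
  have hvx : zpowers (v ^ p) = zpowers x' := by
    refine Subgroup.eq_of_le_of_card_ge (zpowers_le.mpr (hC ▸ hvC)) ?_
    rw [Nat.card_zpowers, Nat.card_zpowers, hx'o, orderOf_eq_prime (S.pow_C hvC) hvp]
  have hxv : (x : G) ∈ zpowers (v : G) := by
    obtain ⟨i, hi⟩ := mem_zpowers_iff.mp (hvx.ge (mem_zpowers x'))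
    refine mem_zpowers_iff.mpr ⟨(p : ℤ) * i, ?_⟩
    rw [zpow_mul, zpow_natCast]
    simpa [hx'] using congrArg Subtype.val hi
  -- `e` normalizes `⟨v⟩`
  obtain ⟨e, heE, heC⟩ := S.exists_notMem_C
  have hev : ⁅(e : G), (v : G)⁆ ∈ zpowers (v : G) := by
    have h1 : ⁅e, v⁆ ∈ zpowers x' := by
      rw [← hC, ← commutatorElement_inv]; exact inv_mem (S.comm_E heE v)
    obtain ⟨i, hi⟩ := mem_zpowers_iff.mp h1
    have hi' : ⁅(e : G), (v : G)⁆ = x ^ i := by
      rw [show ⁅(e : G), (v : G)⁆ = ((⁅e, v⁆ : (P : Subgroup G)) : G) by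
        simp [commutatorElement_def], ← hi, hx']
      simp
    rw [hi']; exact zpow_mem hxv i
  set N := normalizer ((zpowers (v : G) : Subgroup G) : Set G) with hN
  have heN : (e : G) ∈ N := by
    refine mem_normalizer_iff_map_conj_eq.mpr (Subgroup.eq_of_le_of_card_ge ?_
      (card_map_of_injective (MulEquiv.injective _)).ge)
    rw [MonoidHom.map_zpowers, zpowers_le]
    show (e : G) * (v : G) * (e : G)⁻¹ ∈ zpowers (v : G)
    rw [Setup.conj_eq]
    exact mul_mem hev (mem_zpowers _)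
  have hvN : (v : G) ∈ N := le_normalizer (mem_zpowers _)
  -- a `p`-subgroup of `N` above `e`, `v`; a conjugate of `n E n⁻¹` inside it
  set R₀ : Subgroup G := zpowers (e : G) ⊔ zpowers (v : G) with hR₀
  have hR₀P : R₀ ≤ (P : Subgroup G) := sup_le (zpowers_le.mpr e.2) (zpowers_le.mpr v.2)
  have hR₀N : R₀ ≤ N := sup_le (zpowers_le.mpr heN) (zpowers_le.mpr hvN)
  set E' : Subgroup G := (S.E.map (P : Subgroup G).subtype).map (MulAut.conj n).toMonoidHom
  have hE'v : E' ≤ centralizer ({(v : G)} : Set G) := by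
    rintro _ ⟨_, ⟨a, ha, rfl⟩, rfl⟩
    refine mem_centralizer_singleton_iff.mpr ?_
    show n * (a : G) * n⁻¹ * (v : G) = (v : G) * (n * (a : G) * n⁻¹)
    rw [← hn, conj_mul, conj_mul]
    have := congrArg Subtype.val (S.commute_E_K ha hw).eq
    simp only [Subgroup.coe_mul] at this
    rw [this]
  have hE'N : E' ≤ N := by
    rw [hN]
    refine hE'v.trans ?_
    rw [zpowers_eq_closure, ← centralizer_closure]
    exact centralizer_le_normalizer _
  obtain ⟨R, hR⟩ := ((P.2.to_le hR₀P).comap_subtype (K := N)).exists_le_sylow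
  have hE'p : IsPGroup p E' := ((S.hG.to_subgroup S.E).map _).map _
  obtain ⟨R', hR'⟩ := (hE'p.comap_subtype (K := N)).exists_le_sylow
  obtain ⟨h, hh⟩ := MulAction.exists_smul_eq ↥N R' R
  have hRp : IsPGroup p ((R : Subgroup ↥N).map N.subtype) := R.2.map _
  obtain ⟨P₁, hP₁⟩ := hRp.exists_le_sylow
  obtain ⟨j, hj⟩ := MulAction.exists_smul_eq G P₁ P
  have hpull : ∀ {z : G}, z ∈ (P₁ : Subgroup G) → j * z * j⁻¹ ∈ (P : Subgroup G) := by
    intro z hz
    rw [← hj, Sylow.coe_subgroup_smul]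
    exact smul_mem_pointwise_smul z (MulAut.conj j) (P₁ : Subgroup G) hz
  have hR₀mem : ∀ {z : G}, z ∈ R₀ → j * z * j⁻¹ ∈ (P : Subgroup G) := fun {z} hz =>
    hpull (hP₁ ⟨⟨z, hR₀N hz⟩, hR hz, rfl⟩)
  have hvR : (v : G) ∈ R₀ := mem_sup_right (mem_zpowers _)
  have heR : (e : G) ∈ R₀ := mem_sup_left (mem_zpowers _)
  set v₁ : (P : Subgroup G) := ⟨_, hR₀mem hvR⟩ with hv₁
  set e₁ : (P : Subgroup G) := ⟨_, hR₀mem heR⟩ with he₁
  have hjx : j * x * j⁻¹ = x :=
    conj_eq_of_mem hiso P.2 hxP j (hR₀mem (mem_sup_right hxv))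
  have hv₁p : v₁ ^ p ≠ 1 := by
    intro h1
    refine hvp (Subtype.ext ?_)
    have h1' : (j * (v : G) * j⁻¹) ^ p = 1 := by simpa [hv₁] using congrArg Subtype.val h1
    rw [conj_pow, mul_inv_eq_one, mul_eq_left] at h1'
    simpa using h1'
  have he₁p : e₁ ^ p = 1 := by
    refine Subtype.ext ?_
    have he' : (e : G) ^ p = 1 := by simpa using congrArg Subtype.val (S.pow_E e heE)
    simp [he₁, he']
  -- `v₁` lies in `K`
  have hv₁K : v₁ ∈ S.K := by
    by_contra hv₁K
    obtain ⟨y, hyE, hyC⟩ := S.exists_notMem_C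
    have hy' : (h : G) * (n * (y : G) * n⁻¹) * (h : G)⁻¹ ∈ ((R : Subgroup ↥N).map N.subtype) := by
      have hyE' : n * (y : G) * n⁻¹ ∈ E' :=
        mem_map_of_mem (MulAut.conj n).toMonoidHom (mem_map_of_mem _ hyE)
      refine ⟨h * ⟨_, hE'N hyE'⟩ * h⁻¹, ?_, rfl⟩
      rw [← hh, Sylow.coe_subgroup_smul]
      exact smul_mem_pointwise_smul _ (MulAut.conj h) (R' : Subgroup ↥N) (hR' hyE')
    set z := (h : G) * (n * (y : G) * n⁻¹) * (h : G)⁻¹ with hz
    set y₁ : (P : Subgroup G) := ⟨_, hpull (hP₁ hy')⟩ with hy₁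
    have hzv : Commute z (v : G) := by
      have h1 : (h : G)⁻¹ * (v : G) * (h : G) ∈ zpowers (v : G) := by
        have := (mem_normalizer_iff.mp (inv_mem h.2) (v : G)).mp (mem_zpowers _)
        rwa [inv_inv] at this
      have h2 : Commute (n * (y : G) * n⁻¹) ((h : G)⁻¹ * (v : G) * (h : G)) := by
        obtain ⟨i, hi⟩ := mem_zpowers_iff.mp h1
        rw [← hi]
        refine Commute.zpow_right ?_ i
        exact mem_centralizer_singleton_iff.mp
          (hE'v (mem_map_of_mem (MulAut.conj n).toMonoidHom (mem_map_of_mem _ hyE)))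
      have h3 := h2.map (MulAut.conj (h : G)).toMonoidHom
      simpa [hz, mul_assoc] using h3
    have hc : Commute v₁ y₁ := Subtype.ext (by
      have := (hzv.symm.map (MulAut.conj j).toMonoidHom).eq
      simpa [hv₁, hy₁] using this)
    have hy₁p : y₁ ^ p = 1 := by
      refine Subtype.ext ?_
      have hy'' : (y : G) ^ p = 1 := by simpa using congrArg Subtype.val (S.pow_E y hyE)
      simp [hy₁, hz, hy'']
    have hy₁C : y₁ ∉ S.C := by
      intro h1
      rw [hC] at h1
      obtain ⟨i, hi⟩ := mem_zpowers_iff.mp h1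
      have hi' : x ^ i = j * z * j⁻¹ := by simpa [hy₁, hx'] using congrArg Subtype.val hi
      have hzx : z = x ^ i := by
        rw [← hjx, conj_zpow] at hi'
        exact (mul_left_cancel (mul_right_cancel hi')).symm
      -- `x ^ i` is moved back to itself
      have hyx : (y : G) ^ 1 = ((h : G) * n)⁻¹ * x ^ i * ((h : G) * n) := by
        rw [← hzx, hz]; group
      have hfix : ((h : G) * n)⁻¹ * x ^ i * ((h : G) * n) = x ^ i := by
        by_cases hi0 : x ^ i = 1
        · rw [hi0]; group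
        have hgen : x ∈ zpowers (x ^ i) := CfsgLib.IsolatedP.mem_zpowers_of_mem_of_ne_one
          (p := p) (hx ▸ pow_orderOf_eq_one x) (zpow_mem (mem_zpowers x) i) hi0
        obtain ⟨b, hb⟩ := mem_zpowers_iff.mp hgen
        have hcj : ((h : G) * n)⁻¹ * x * ((h : G) * n) = x := by
          have hmem : ((h : G) * n)⁻¹ * x * ((h : G) * n) ∈ (P : Subgroup G) := by
            have h4 : (y : G) ^ b = ((h : G) * n)⁻¹ * x * ((h : G) * n) := by
              rw [pow_one] at hyx
              rw [hyx]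
              have := (conj_zpow (a := ((h : G) * n)⁻¹) (b := x ^ i) (i := b))
              rw [inv_inv] at this
              rw [this, hb]
            rw [← h4]; exact zpow_mem y.2 b
          simpa using conj_eq_of_mem hiso P.2 hxP (((h : G) * n)⁻¹) (by simpa using hmem)
        have := (conj_zpow (a := ((h : G) * n)⁻¹) (b := x) (i := i))
        rw [inv_inv, hcj] at this
        exact this.symm
      rw [pow_one, hfix] at hyx
      exact hyC (hC ▸ ⟨i, Subtype.ext (by simpa [hx'] using hyx.symm)⟩)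
    by_cases hy₁K : y₁ ∈ S.K
    · exact hy₁C (mem_C_of_commute S hT hv₁K hy₁K hc)
    -- both outside `K`: some `v₁ * y₁ ^ i` is in `K` and commutes with `v₁`
    have htop : v₁ ∈ S.K ⊔ zpowers y₁ := (K_sup_zpowers S hy₁K).ge (mem_top _)
    obtain ⟨k, hk, t, ht, hkt⟩ := mem_sup_of_normal_left.mp htop
    obtain ⟨i, rfl⟩ := mem_zpowers_iff.mp ht
    have hkc : Commute v₁ k := by
      rw [show k = v₁ * (y₁ ^ i)⁻¹ by rw [← hkt, mul_inv_cancel_right]]
      exact (Commute.refl v₁).mul_right (hc.zpow_right i).inv_right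
    have hkC := mem_C_of_commute S hT hv₁K hk hkc
    apply hv₁p
    rw [← hkt, ((S.C_central hkC y₁).zpow_right i).mul_pow, S.pow_C hkC, one_mul,
      ← zpow_natCast, zpow_comm, zpow_natCast, hy₁p, one_zpow]
  -- `[e₁, v₁] ∈ C`
  have hcomm : ⁅e₁, v₁⁆ ∈ S.C := by
    rw [hC]
    have h1 : ⁅e, v⁆ ∈ zpowers x' := by
      rw [← hC, ← commutatorElement_inv]; exact inv_mem (S.comm_E heE v)
    obtain ⟨i, hi⟩ := mem_zpowers_iff.mp h1
    refine mem_zpowers_iff.mpr ⟨i, Subtype.ext ?_⟩
    have hi' : x ^ i = ⁅(e : G), (v : G)⁆ := by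
      simpa [hx', commutatorElement_def] using congrArg Subtype.val hi
    have h2 : x ^ i = j * ⁅(e : G), (v : G)⁆ * j⁻¹ := by
      rw [← hi', ← conj_zpow, hjx]
    simpa [hx', he₁, hv₁, commutatorElement_def, mul_assoc] using h2
  by_cases he₁K : e₁ ∈ S.K
  · have h1 := S.commute_E_K (S.mem_E e₁ he₁K he₁p) hv₁K
    have h2 : Commute e v := Subtype.ext (by
      have h3 : (j * (e : G) * j⁻¹) * (j * (v : G) * j⁻¹) =
          (j * (v : G) * j⁻¹) * (j * (e : G) * j⁻¹) := congrArg Subtype.val h1.eq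
      rw [conj_mul, conj_mul] at h3
      exact mul_left_cancel (mul_right_cancel h3))
    exact S.comm_E_ne heE heC hv (commutatorElement_eq_one_iff_commute.mpr h2.symm)
  · exact hv₁p (S.pow_E _ (mem_E_of_comm S hT he₁K hv₁K hcomm))

/-- The case of maximal class. -/
theorem of_not_TZero (hperf : commutator G = ⊤) (hx : orderOf x = p) (hiso : Cfsg.IsIsolated x)
    (hxP : x ∈ (P : Subgroup G)) (S : Setup p (P : Subgroup G)) (hT : ¬ S.TZero) :
    ∃ k : ℕ, 2 ≤ k ∧ Nat.card (P : Subgroup G) = p ^ (2 * k + 1) ∧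
      ∃ _ : Group.IsNilpotent (P : Subgroup G), Group.nilpotencyClass (P : Subgroup G) = 2 * k := by
  classical
  set x' : (P : Subgroup G) := ⟨x, hxP⟩ with hx'
  have hcx := commute_of_mem hiso P.2 hxP
  have hC : S.C = zpowers x' := C_eq_zpowers S (by rw [hx', orderOf_mk, hx])
    fun g => Subtype.ext (hcx g g.2).eq.symm
  obtain ⟨g₀, hg₀⟩ : ∃ g, g ∉ S.K := by
    by_contra hh
    push Not at hh
    have := S.index_eq
    rw [show centralizer (S.E : Set (P : Subgroup G)) = ⊤ from top_unique fun y _ => hh y,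
      index_top] at this
    exact hp.out.ne_one this.symm
  obtain ⟨n, hn⟩ := P.2.exists_card_eq
  have hKcard : Nat.card S.K * p = p ^ n := by
    have h1 := card_mul_index S.K
    rwa [show S.K.index = p from S.index_eq, hn] at h1
  have hex : ∃ r, S.O (r + 1) ≤ S.P r := ⟨n, fun y hy => ⟨hy.1, by
    rw [← hn, pow_card_eq_one']; exact one_mem _⟩⟩
  set r := Nat.find hex with hr
  have hrspec : S.O (r + 1) ≤ S.P r := Nat.find_spec hex
  obtain ⟨m, hm⟩ : ∃ m, r = m + 1 := by
    refine ⟨r - 1, ?_⟩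
    by_contra h0
    rw [show r = 0 by omega] at hrspec
    obtain ⟨y, hy, hyC⟩ := S.exists_notMem_C
    exact hyC (S.mem_P_zero.mp (hrspec (S.mem_O_one.mpr hy)))
  have htop : S.K ≤ S.O (r + 1) := by
    by_contra hle
    obtain ⟨y, hyK, hy⟩ := SetLike.not_le_iff_exists.mp hle
    have hexl := S.exists_mem_O hyK
    set l := Nat.find hexl
    have hl : y ∈ S.O l := Nat.find_spec hexl
    have hlr : r + 2 ≤ l := by
      by_contra hlr
      exact hy (S.O_mono (by omega) hl)
    obtain ⟨q, hq⟩ := Nat.exists_eq_add_of_le hlr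
    have hz : y ^ p ^ q ∈ S.O (r + 2) := ⟨pow_mem hyK _, by
      rw [← pow_mul, ← pow_add, add_comm, ← hq]; exact hl.2⟩
    have hz' : y ^ p ^ q ∉ S.O (r + 1) := fun h' => Nat.find_min hexl (show r + 1 + q < l by omega)
      ⟨hyK, by rw [add_comm, pow_add, pow_mul]; exact h'.2⟩
    set z := y ^ p ^ q
    have hzp : z ^ p ∈ S.P r := hrspec ⟨pow_mem hz.1 _, by
      rw [← pow_mul, ← pow_succ']; exact hz.2⟩
    have hzP : z ∈ S.P (r + 1) := ⟨hz.1, by rw [pow_succ', pow_mul]; exact hzp.2⟩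
    have hd : ⁅g₀, z⁆ ∈ S.P r := hrspec (S.R3 hzP g₀)
    obtain ⟨hz1, hiff⟩ := S.R4 hzP g₀
    refine S.move hT hg₀ hz1 (fun hE => hz' ⟨hz.1, ?_⟩) (hiff.mp hd)
    rw [pow_succ, pow_mul]
    exact S.pow_E _ hE
  by_cases htop' : S.K ≤ S.O r
  · -- the order is `p ^ (2 r + 1)`
    have hcardO : ∀ l, Nat.card (S.O l) ≤ p ^ (2 * l) := by
      intro l
      induction l with
      | zero =>
        have : S.O 0 = ⊥ := (Subgroup.eq_bot_iff_forall _).mpr fun y hy => S.mem_O_zero hy
        simp [this]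
      | succ l ih =>
        let f : S.O (l + 1) →* (P : Subgroup G) := MonoidHom.mk'
          (fun y => (y : (P : Subgroup G)) ^ p ^ l) fun a b => S.exact_pow a.2.1 b.2.1 b.2.2
        have hker : Nat.card f.ker ≤ Nat.card (S.O l) :=
          Nat.card_le_card_of_injective (fun y =>
            (⟨((y : S.O (l + 1)) : (P : Subgroup G)), (y : S.O (l + 1)).2.1, y.2⟩ : S.O l))
            fun a b hab => Subtype.ext (Subtype.ext (by simpa using congrArg Subtype.val hab))
        have hcard : Nat.card (S.O (l + 1)) = Nat.card f.range * Nat.card f.ker := by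
          rw [← index_ker, mul_comm, card_mul_index]
        rw [hcard, show 2 * (l + 1) = 2 + 2 * l by ring, pow_add]
        refine Nat.mul_le_mul ((Subgroup.card_le_of_le ?_).trans S.ecard.le) (hker.trans ih)
        rintro _ ⟨y, rfl⟩
        exact S.mem_E _ (pow_mem y.2.1 _) (by
          show ((y : (P : Subgroup G)) ^ p ^ l) ^ p = 1
          rw [← pow_mul, ← pow_succ]; exact y.2.2)
    have hle : n ≤ 2 * r + 1 := by
      refine (Nat.pow_le_pow_iff_right hp.out.one_lt).mp ?_
      rw [← hKcard, pow_succ]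
      exact Nat.mul_le_mul_right p ((Subgroup.card_le_of_le htop').trans (hcardO r))
    obtain ⟨y, hy, hyP⟩ := SetLike.not_le_iff_exists.mp (Nat.find_min hex (show m < r by omega))
    have hne := S.chain hT hg₀ m y hy hyP 0 (mem_top y)
    haveI hnil : Group.IsNilpotent (P : Subgroup G) := P.2.isNilpotent
    have hcl : 2 * r ≤ Group.nilpotencyClass (P : Subgroup G) := by
      by_contra hlt
      exact hne (le_bot_iff.mp ((Subgroup.lowerCentralSeries_antitone ⊤ (show Group.nilpotencyClass (P : Subgroup G) ≤ 0 + 2 * m + 1 by omega)).trans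
        (Subgroup.lowerCentralSeries_eq_bot_iff_nilpotencyClass_le.mpr le_rfl).le))
    have hcl' := CfsgLib.Solvable.nilpotencyClass_le_of_card p n hn
    refine ⟨r, ?_, by rw [hn]; congr 1; omega, hnil, by omega⟩
    by_contra hr2
    apply hT
    intro g y hy
    refine S.comm_E (S.mem_O_one.mp ?_) g
    exact S.O_mono (by omega) (htop' hy.1)
  · exfalso
    obtain ⟨u, huK, huO⟩ := SetLike.not_le_iff_exists.mp htop'
    obtain ⟨a, ha⟩ : ∃ a, a ∉ S.K := ⟨g₀, hg₀⟩
    -- `P / O r` is abelian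
    have hKP : S.K ≤ S.P r := htop.trans hrspec
    set π := QuotientGroup.mk' (S.O r) with hπ
    have hcomm : ∀ s t : (P : Subgroup G), Commute (π s) (π t) := by
      have h1 : ∀ s, ∀ k ∈ S.K, Commute (π s) (π k) := fun s k hk =>
        commutatorElement_eq_one_iff_commute.mp (by
          rw [← map_commutatorElement]
          exact (QuotientGroup.eq_one_iff _).mpr (S.R3 (hKP hk) s))
      intro s t
      obtain ⟨k, hk, t', ht', rfl⟩ := mem_sup_of_normal_left.mp
        ((K_sup_zpowers S ha).ge (mem_top t))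
      obtain ⟨l, hl, s', hs', rfl⟩ := mem_sup_of_normal_left.mp
        ((K_sup_zpowers S ha).ge (mem_top s))
      obtain ⟨i, rfl⟩ := mem_zpowers_iff.mp ht'
      obtain ⟨i', rfl⟩ := mem_zpowers_iff.mp hs'
      rw [map_mul π k]
      refine (h1 _ k hk).mul_right ?_
      rw [map_mul π l]
      refine (h1 _ l hl).symm.mul_left ?_
      exact ((Commute.refl a).zpow_zpow i' i).map π
    letI : CommGroup ((P : Subgroup G) ⧸ S.O r) :=
      { (inferInstance : Group ((P : Subgroup G) ⧸ S.O r)) with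
        mul_comm := fun s t => by
          obtain ⟨s, rfl⟩ := QuotientGroup.mk'_surjective (S.O r) s
          obtain ⟨t, rfl⟩ := QuotientGroup.mk'_surjective (S.O r) t
          exact hcomm s t }
    have hu1 : π u ∉ zpowers (π a) := by
      intro h1
      obtain ⟨i, hi⟩ := mem_zpowers_iff.mp h1
      rw [← map_zpow] at hi
      have hd : (a ^ i)⁻¹ * u ∈ S.O r := QuotientGroup.eq.mp hi
      have hai : a ^ i ∈ S.K := by
        have h2 := mul_mem huK (inv_mem hd.1)
        simpa using h2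
      have hpi : (p : ℤ) ∣ i := by
        by_contra hndvd
        obtain ⟨b, c, hbc⟩ := (Nat.prime_iff_prime_int.1 hp.out).coprime_iff_not_dvd.2 hndvd
        apply ha
        rw [← zpow_one a, ← hbc, zpow_add, mul_comm b, mul_comm c, zpow_mul, zpow_mul, zpow_natCast]
        exact mul_mem (zpow_mem (pow_mem_K S a) _) (zpow_mem hai _)
      obtain ⟨c, rfl⟩ := hpi
      refine huO ?_
      have h3 : a ^ ((p : ℤ) * c) ∈ S.O r := by
        rw [zpow_mul, zpow_natCast]
        exact zpow_mem (S.O_mono (show 1 ≤ r by omega)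
          (S.mem_O_one.mpr (S.C_le_E (cube_mem_C S hT ha)))) c
      simpa using mul_mem h3 hd
    let φ := (QuotientGroup.mk' (zpowers (π a))).comp π
    apply hu1
    rw [← QuotientGroup.eq_one_iff]
    refine eq_one_of_transfer hperf P φ u fun m g hg => ?_
    set v : (P : Subgroup G) := ⟨g * (u : G) ^ m * g⁻¹, hg⟩ with hv
    rw [← map_pow]
    have hum : u ^ m ∈ S.K := pow_mem huK m
    obtain ⟨n₁, hn₁x, hn₁⟩ := exists_fix_conj hiso hx (u := (u : G) ^ m) (g := g)
      (hcx _ (pow_mem u.2 m)).symm (hcx _ hg).symm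
    have hfix : ∀ z ∈ S.C, n₁ * (z : G) * n₁⁻¹ = z := by
      intro z hz
      rw [hC] at hz
      obtain ⟨i, rfl⟩ := mem_zpowers_iff.mp hz
      simp only [SubgroupClass.coe_zpow]
      rw [← conj_zpow, hn₁x]
    by_cases hlow : (u ^ m) ^ p = 1
    · have hmE : u ^ m ∈ S.E := S.mem_E _ hum hlow
      have hmC : u ^ m ∈ S.C := by
        by_contra hmC
        -- otherwise `p ^ r ∣ m` and `u ^ m` is a power of `u ^ (p ^ r) ∈ C`
        have huo : orderOf u = p ^ (r + 1) :=
          orderOf_eq_prime_pow (fun h => huO ⟨huK, h⟩) (htop huK).2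
        have hdvd : p ^ r ∣ m := by
          rw [← pow_mul] at hlow
          have := orderOf_dvd_of_pow_eq_one hlow
          rw [huo, pow_succ] at this
          exact Nat.dvd_of_mul_dvd_mul_right hp.out.pos this
        obtain ⟨c, rfl⟩ := hdvd
        exact hmC (by rw [pow_mul]; exact pow_mem (hKP huK).2 c)
      have hvu : v = u ^ m := Subtype.ext (by
        have := hfix _ hmC
        rw [SubgroupClass.coe_pow] at this ⊢
        rw [hv]; exact hn₁.symm.trans this)
      rw [hvu]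
    · have hvK : v ∈ S.K := mem_K_of_fused P hx hiso hxP S hC hT hum hlow (n := n₁) (v := v)
        (by rw [SubgroupClass.coe_pow]; exact hn₁)
      refine congrArg (QuotientGroup.mk' (zpowers (π a))) (QuotientGroup.eq.mpr ?_)
      have hpow : v ^ p ^ r = (u ^ m) ^ p ^ r := by
        refine Subtype.ext ?_
        have h4 := hfix _ (hKP hum).2
        simp only [SubgroupClass.coe_pow] at h4 ⊢
        show (g * (u : G) ^ m * g⁻¹) ^ p ^ r = ((u : G) ^ m) ^ p ^ r
        rw [← hn₁, conj_pow]; exact h4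
      refine ⟨mul_mem (inv_mem hvK) hum, ?_⟩
      rw [S.exact_pow (inv_mem hvK) hum (htop hum).2, inv_pow, hpow, inv_mul_cancel]

/-- The case of a complement element of order `p` and a narrow second layer. -/
theorem of_narrow (hperf : commutator G = ⊤) (hx : orderOf x = p) (hiso : Cfsg.IsIsolated x)
    (hxP : x ∈ (P : Subgroup G)) (S : Setup p (P : Subgroup G)) {a : (P : Subgroup G)}
    (haK : a ∉ S.K) (ha : a ^ p = 1) (h2 : S.O 2 ≤ S.P 1) (hor : 3 < p ∨ S.TZero) :
    Cfsg.IsExtraspecial p (P : Subgroup G) ∧ Nat.card (P : Subgroup G) = p ^ 3 ∧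
      ∀ y : (P : Subgroup G), y ^ p = 1 := by
  classical
  set x' : (P : Subgroup G) := ⟨x, hxP⟩ with hx'
  have hcx := commute_of_mem hiso P.2 hxP
  have hC : S.C = zpowers x' := C_eq_zpowers S (by rw [hx', orderOf_mk, hx])
    fun g => Subtype.ext (hcx g g.2).eq.symm
  have hg : ∀ i : ℤ, a ^ i ∈ S.K → a ^ i = 1 := by
    intro i hi
    by_contra hne
    have := CfsgLib.IsolatedP.mem_zpowers_of_mem_of_ne_one (p := p) ha (zpow_mem (mem_zpowers a) i) hne
    exact haK (zpowers_le.mpr hi this)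
  have hgp : ∀ i : ℤ, (a ^ i) ^ p = 1 := fun i => by
    rw [← zpow_natCast, zpow_comm, zpow_natCast, ha, one_zpow]
  obtain ⟨n, hn⟩ := P.2.exists_card_eq
  by_cases hKE : S.K ≤ S.E
  · -- order `p ^ 3`
    have hKE' : S.K = S.E := le_antisymm hKE S.E_le_K
    have hcard : Nat.card (P : Subgroup G) = p ^ 3 := by
      rw [← card_mul_index S.K, show S.K.index = p from S.index_eq, hKE', S.ecard, ← pow_succ]
    have hexp : ∀ y : (P : Subgroup G), y ^ p = 1 := by
      intro y
      obtain ⟨k, hk, t, ht, rfl⟩ := mem_sup_of_normal_left.mp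
        ((K_sup_zpowers S haK).ge (mem_top y))
      obtain ⟨i, rfl⟩ := mem_zpowers_iff.mp ht
      have hkE := hKE hk
      have hdC := S.comm_E hkE (a ^ i)
      rw [mul_pow_chain (g := a ^ i) (k := k) (d := ⁅a ^ i, k⁆) (e := 1) (Setup.conj_eq _ _)
        (by rw [one_mul, ← (S.C_central hdC (a ^ i)).eq, mul_inv_cancel_right])
        (Commute.one_right _) (S.C_central hdC k).symm (Commute.one_right _) (Commute.one_right _),
        one_pow, mul_one, S.pow_E k hkE, one_mul, hgp i, mul_one]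
      obtain ⟨c, hc⟩ := S.choose_two_dvd
      rw [hc, pow_mul, S.pow_C hdC, one_pow]
    refine ⟨?_, hcard, hexp⟩
    -- centre and derived group
    have hcomm : commutator (P : Subgroup G) ≤ S.C := by
      rw [_root_.commutator_def, commutator_le]
      intro s _ t _
      haveI : S.C.Normal := ⟨fun z hz g => by
        rw [← (S.C_central hz g).eq, mul_inv_cancel_right]; exact hz⟩
      rw [← QuotientGroup.eq_one_iff, ← QuotientGroup.mk'_apply, map_commutatorElement,
        commutatorElement_eq_one_iff_commute]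
      have h1 : ∀ g, ∀ k ∈ S.K, Commute (QuotientGroup.mk' S.C g) (QuotientGroup.mk' S.C k) :=
        fun g k hk => commutatorElement_eq_one_iff_commute.mp (by
          rw [← map_commutatorElement]
          exact (QuotientGroup.eq_one_iff _).mpr (S.comm_E (hKE hk) g))
      obtain ⟨k, hk, t', ht', rfl⟩ := mem_sup_of_normal_left.mp
        ((K_sup_zpowers S haK).ge (mem_top t))
      obtain ⟨l, hl, s', hs', rfl⟩ := mem_sup_of_normal_left.mp
        ((K_sup_zpowers S haK).ge (mem_top s))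
      obtain ⟨i, rfl⟩ := mem_zpowers_iff.mp ht'
      obtain ⟨i', rfl⟩ := mem_zpowers_iff.mp hs'
      rw [map_mul _ k]
      refine (h1 _ k hk).mul_right ?_
      rw [map_mul _ l]
      exact (h1 _ l hl).symm.mul_left (((Commute.refl a).zpow_zpow i' i).map _)
    have hnab : ¬ ∀ s t : (P : Subgroup G), s * t = t * s := by
      intro hab
      obtain ⟨y, hy, hyC⟩ := S.exists_notMem_C
      exact S.comm_E_ne hy hyC haK (commutatorElement_eq_one_iff_mul_comm.mpr (hab a y))
    have hCeq : commutator (P : Subgroup G) = S.C := by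
      refine Subgroup.eq_of_le_of_card_ge hcomm ?_
      have hd : Nat.card (commutator (P : Subgroup G)) ∣ p := (card_dvd_of_le hcomm).trans S.card_C.dvd
      rcases (Nat.dvd_prime hp.out).mp hd with h1 | h1
      · exact absurd (fun s t => commutatorElement_eq_one_iff_mul_comm.mp
          (mem_bot.mp ((Subgroup.card_eq_one.mp h1).le
            (commutator_mem_commutator (mem_top s) (mem_top t))))) hnab
      · rw [h1, S.card_C]
    have hcen : Subgroup.center (P : Subgroup G) = S.C := by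
      refine le_antisymm (fun z hz => ?_) fun z hz => mem_center_iff.mpr fun g =>
        (S.C_central hz g).eq.symm
      have hzK : z ∈ S.K := fun e _ => mem_center_iff.mp hz e
      exact S.cen_E z (hKE hzK) fun g => (mem_center_iff.mp hz g).symm
    refine ⟨⟨P.2, ?_, hCeq.trans hcen.symm⟩, by rw [hcen, S.card_C]⟩
    rw [hcen]
    refine le_antisymm ?_ (hCeq.ge.trans (CfsgLib.Solvable.commutator_le_frattini P.2))
    exact CfsgLib.Solvable.frattini_le_of_elementary (p := p) hCeq.le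
      (fun y => by rw [hexp y]; exact one_mem _)
  · exfalso
    -- the top of `K`
    have hexT : ∃ T, S.K ≤ S.O (T + 2) := ⟨n, fun y hy => ⟨hy, by
      rw [show n + 2 = n + (1 + 1) from rfl, pow_add, pow_mul, ← hn, pow_card_eq_one', one_pow]⟩⟩
    set T := Nat.find hexT
    have hT : S.K ≤ S.O (T + 2) := Nat.find_spec hexT
    obtain ⟨u, huK, huO⟩ : ∃ u ∈ S.K, u ∉ S.O (T + 1) := by
      refine SetLike.not_le_iff_exists.mp fun hle => ?_
      rcases Nat.eq_zero_or_pos T with h0 | h0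
      · exact hKE fun y hy => S.mem_O_one.mp (by simpa [h0] using hle hy)
      · exact Nat.find_min hexT (show T - 1 < T by omega)
          (by rwa [show T - 1 + 2 = T + 1 by omega])
    have hP : ∀ {k}, k ∈ S.K → k ^ p ^ (T + 1) ∈ S.C := by
      intro k hk
      have h1 : k ^ p ^ T ∈ S.O 2 := ⟨pow_mem hk _, by
        rw [← pow_mul, ← pow_add]; exact (hT hk).2⟩
      have h1' := (h2 h1).2
      rwa [pow_one, ← pow_mul, ← pow_succ] at h1'
    have key : ∀ k ∈ S.K, ∀ i : ℤ, (k * a ^ i) ^ p ^ (T + 1) = k ^ p ^ (T + 1) := by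
      intro k hk i
      by_cases hi : a ^ i ∈ S.K
      · rw [hg i hi, mul_one]
      · exact mul_pow_narrow S hi (hgp i) h2 hT (fun _ => hor) hk
    have hdec : ∀ y : (P : Subgroup G), ∃ k ∈ S.K, ∃ i : ℤ, k * a ^ i = y := by
      intro y
      obtain ⟨k, hk, t, ht, rfl⟩ := mem_sup_of_normal_left.mp
        ((K_sup_zpowers S haK).ge (mem_top y))
      obtain ⟨i, rfl⟩ := mem_zpowers_iff.mp ht
      exact ⟨k, hk, i, rfl⟩
    refine false_of_pow_hom P hperf hx hiso hxP (p ^ (T + 1)) (fun y => ?_) (fun y z => ?_)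
      (u := u) fun h => huO ⟨huK, h⟩
    · obtain ⟨k, hk, i, rfl⟩ := hdec y
      have h1 := hP hk
      rw [← key k hk i, hC] at h1
      obtain ⟨c, hc⟩ := mem_zpowers_iff.mp h1
      exact mem_zpowers_iff.mpr ⟨c, by simpa [hx'] using congrArg Subtype.val hc⟩
    · obtain ⟨k, hk, i, rfl⟩ := hdec y
      obtain ⟨l, hl, j, rfl⟩ := hdec z
      have hl' : a ^ i * l * (a ^ i)⁻¹ ∈ S.K := S.K_normal.conj_mem l hl _
      rw [show k * a ^ i * (l * a ^ j) = k * (a ^ i * l * (a ^ i)⁻¹) * a ^ (i + j) by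
        rw [zpow_add]; group, key _ (mul_mem hk hl'), key k hk, key l hl,
        S.exact_pow hk hl' (hT hl').2, conj_pow, ← (S.C_central (hP hl) (a ^ i)).eq,
        mul_inv_cancel_right]

end Cases

/-- Sylow subgroups of rank at most two through an isolated element of a perfect group. -/
theorem sylow_rank_two {G : Type u} [Group G] [Finite G] {p : ℕ} [hp : Fact p.Prime] (hp2 : p ≠ 2)
    (hperf : commutator G = ⊤) {x : G} (hx : orderOf x = p) (hiso : Cfsg.IsIsolated x)
    (P : Sylow p G) (hxP : x ∈ (P : Subgroup G)) (hrk : Cfsg.PRankLE p 2 (P : Subgroup G)) :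
    (Cfsg.IsExtraspecial p (P : Subgroup G) ∧ Nat.card (P : Subgroup G) = p ^ 3 ∧
      ∀ y : (P : Subgroup G), y ^ p = 1) ∨
    (p = 3 ∧ ∃ k : ℕ, 2 ≤ k ∧ Nat.card (P : Subgroup G) = 3 ^ (2 * k + 1) ∧
      ∃ _ : Group.IsNilpotent (P : Subgroup G), Group.nilpotencyClass (P : Subgroup G) = 2 * k) := by
  rcases metacyclic_or_setup hp2 P.2 hrk with hm | ⟨⟨S⟩⟩
  · exact (false_of_metacyclic hperf hp2 hx hiso P hxP hm).elim
  by_cases h3 : p = 3 ∧ ¬ S.TZero
  · obtain ⟨h3, hT⟩ := h3
    subst h3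
    exact Or.inr ⟨rfl, of_not_TZero P hperf hx hiso hxP S hT⟩
  by_cases hne : ∀ a : (P : Subgroup G), a ∉ S.K → a ^ p ≠ 1
  · rcases S.metacyclic_or hne with hm | hm
    · exact (false_of_metacyclic hperf hp2 hx hiso P hxP hm).elim
    · exact absurd hm h3
  push Not at hne
  obtain ⟨a, haK, ha⟩ := hne
  refine Or.inl (of_narrow P hperf hx hiso hxP S haK ha ?_ ?_)
  · intro y hy
    by_contra hyP
    exact h3 (S.wide haK ha hy hyP)
  · by_cases hT : S.TZero
    · exact Or.inr hT
    · left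
      have := hp.out.two_le
      have h3' : p ≠ 3 := fun h => h3 ⟨h, hT⟩
      omega

end CfsgLib.IsolatedP
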